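import Cfsg.Agent.Lib.Involutions.HalfTransitive.OddP
import Cfsg.Agent.Lib.Cores.Fitting

/-!
# Transitive linear groups of odd order (Huppert)

A solvable group of odd order which is transitive on the non-zero vectors of a finite module has a cyclic
Fitting subgroup acting semiregularly, and the quotient by it is abelian.
-/

set_option autoImplicit false

namespace Cfsg.Agent.OddTransitive

open MulAction

variable {D E : Type*} [Group D] [Finite D] [AddCommGroup E] [Finite E] [Nontrivial E]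
  [DistribMulAction D E] [FaithfulSMul D E]

/-- The characteristic is two. -/
theorem char_eq_two (hodd : Odd (Nat.card D)) {q : ℕ} (hq : q.Prime) (hE : ∀ e : E, q • e = 0)
    (htrans : ∀ a b : E, a ≠ 0 → b ≠ 0 → ∃ d : D, d • a = b) : q = 2 := by
  classical
  by_contra hq2
  obtain ⟨a, ha⟩ := exists_ne (0 : E)
  have hneg : -a ≠ a := by
    intro h
    have h2 : (2 : ℕ) • a = 0 := by rw [two_nsmul]; nth_rw 1 [← h]; exact neg_add_cancel a
    have h1 := addOrderOf_dvd_of_nsmul_eq_zero h2
    have h3 := addOrderOf_dvd_of_nsmul_eq_zero (hE a)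
    exact ha (AddMonoid.addOrderOf_eq_one_iff.1
      (Nat.eq_one_of_dvd_coprimes ((Nat.coprime_primes Nat.prime_two hq).2 (Ne.symm hq2)) h1 h3))
  obtain ⟨d, hd⟩ := htrans a (-a) ha (neg_ne_zero.2 ha)
  have hd2 : (d * d) • a = a := by rw [mul_smul, hd, smul_neg, hd, neg_neg]
  obtain ⟨k, hk⟩ := hodd
  have hev : ∀ j : ℕ, (d ^ (2 * j)) • a = a := by
    intro j
    induction j with
    | zero => simp
    | succ j ih =>
      rw [show 2 * (j + 1) = 2 * j + 2 by ring, pow_add, pow_two, mul_smul, hd2, ih]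
  apply hneg
  calc -a = d • (d ^ (2 * k)) • a := by rw [hev, hd]
    _ = (d ^ (Nat.card D)) • a := by rw [← mul_smul, ← pow_succ', hk]
    _ = a := by rw [pow_card_eq_one', one_smul]

/-- Every `p`-core is cyclic and semiregular on the non-zero vectors. -/
theorem pCore_structure (hodd : Odd (Nat.card D)) {q : ℕ} (hq : q.Prime) (hE : ∀ e : E, q • e = 0)
    (htrans : ∀ a b : E, a ≠ 0 → b ≠ 0 → ∃ d : D, d • a = b) (p : ℕ) [hp : Fact p.Prime] :
    IsCyclic (Cfsg.pCore p D) ∧
      ∀ g : Cfsg.pCore p D, g ≠ 1 → ∀ a : E, g • a = a → a = 0 := by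
  set P := Cfsg.pCore p D
  by_cases hP : P = ⊥
  · haveI : Subsingleton P := by rw [hP]; infer_instance
    exact ⟨inferInstance, fun g hg => absurd (Subsingleton.elim g 1) hg⟩
  have hpd : p ∣ Nat.card D := by
    obtain ⟨k, hk⟩ := IsPGroup.iff_card.1 (Cores.pCore_isPGroup p : IsPGroup p P)
    have hk0 : k ≠ 0 := fun h => hP (P.eq_bot_of_card_eq (by rw [hk, h, pow_zero]))
    exact (dvd_pow_self p hk0).trans (hk ▸ P.card_subgroup_dvd_card)
  have hp2 : p ≠ 2 := fun h => Nat.not_even_iff_odd.2 hodd (even_iff_two_dvd.2 (h ▸ hpd))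
  have hq2 := char_eq_two hodd hq hE htrans
  refine Involutions.HalfTransitive.cyclic_semiregular (Cores.pCore_isPGroup p) hq
    (hq2.symm ▸ hp2) hE ?_ hp2
  intro a b ha hb
  obtain ⟨d, hd⟩ := htrans a b ha hb
  have hN := Cores.pCore_normal (G := D) p
  refine Nat.card_congr
    { toFun := fun x => ⟨⟨d * (x.1 : D) * d⁻¹, hN.conj_mem _ x.1.2 d⟩, ?_⟩
      invFun := fun x => ⟨⟨d⁻¹ * (x.1 : D) * d, by simpa using hN.conj_mem _ x.1.2 d⁻¹⟩, ?_⟩
      left_inv := fun x => by ext; simp [mul_assoc]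
      right_inv := fun x => by ext; simp [mul_assoc] }
  · show (d * (x.1 : D) * d⁻¹) • b = b
    have hx : (x.1 : D) • a = a := x.2
    rw [← hd, ← mul_smul]
    simp [mul_smul, hx]
  · show (d⁻¹ * (x.1 : D) * d) • a = a
    have hx : (x.1 : D) • b = b := x.2
    rw [mul_smul, mul_smul, hd, hx, ← hd, inv_smul_smul]

/-- Huppert's theorem for groups of odd order. -/
theorem fitting_structure [Group.IsSolvable D] (hodd : Odd (Nat.card D)) {q : ℕ} (hq : q.Prime)
    (hE : ∀ e : E, q • e = 0) (htrans : ∀ a b : E, a ≠ 0 → b ≠ 0 → ∃ d : D, d • a = b) :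
    IsCyclic ↥(Cfsg.fittingSubgroup D) ∧
      (∀ g ∈ Cfsg.fittingSubgroup D, g ≠ 1 → ∀ a : E, g • a = a → a = 0) ∧
      commutator D ≤ Cfsg.fittingSubgroup D := by
  set F := Cfsg.fittingSubgroup D with hF
  haveI : Group.IsNilpotent F := Cores.fittingSubgroup_isNilpotent
  haveI hz : IsZGroup F := ⟨fun p hp P => by
    haveI : Fact p.Prime := ⟨hp⟩
    haveI := (pCore_structure hodd hq hE htrans p).1
    have e := (P : Subgroup F).equivMapOfInjective F.subtype F.subtype_injective
    rw [Cores.sylow_fitting_map P] at e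
    exact isCyclic_of_surjective e.symm e.symm.surjective⟩
  have hcyc : IsCyclic F := inferInstance
  refine ⟨hcyc, ?_, ?_⟩
  · intro g hg hg1 a ha
    have ho : orderOf (⟨g, hg⟩ : F) ≠ 1 := by
      simpa [orderOf_eq_one_iff, Subtype.ext_iff] using hg1
    obtain ⟨p, hp, hpdvd⟩ := Nat.exists_prime_and_dvd ho
    haveI : Fact p.Prime := ⟨hp⟩
    obtain ⟨m, hm⟩ := hpdvd
    set y : F := (⟨g, hg⟩ : F) ^ m with hy
    have hyo : orderOf y = p := by
      rw [hy, orderOf_pow_of_dvd (by rintro rfl; exact absurd (orderOf_pos (⟨g, hg⟩ : F)) (by rw [hm, mul_zero]; omega))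
        (by rw [hm]; exact dvd_mul_left m p), hm, Nat.mul_div_cancel _ (Nat.pos_of_ne_zero ?_)]
      rintro rfl
      exact absurd (orderOf_pos (⟨g, hg⟩ : F)) (by rw [hm, mul_zero]; omega)
    obtain ⟨P, hP⟩ := (IsPGroup.of_card (n := 1) (p := p)
      (G := Subgroup.zpowers y) (by rw [Nat.card_zpowers, hyo, pow_one])).exists_le_sylow
    have hyP : (y : D) ∈ Cfsg.pCore p D := by
      rw [← Cores.sylow_fitting_map P]
      exact ⟨y, hP (Subgroup.mem_zpowers y), rfl⟩
    refine (pCore_structure hodd hq hE htrans p).2 ⟨_, hyP⟩ ?_ a ?_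
    · intro h
      have h1 : y = 1 := Subtype.ext (congrArg (fun z : Cfsg.pCore p D => (z : D)) h)
      rw [h1, orderOf_one] at hyo
      exact hp.ne_one hyo.symm
    · show (y : D) • a = a
      rw [hy, SubgroupClass.coe_pow]
      exact (stabilizer D a).pow_mem ha m
  · haveI : F.Normal := inferInstance
    intro x hx
    have hker : commutator D ≤ (MulAut.conjNormal (H := F)).ker := by
      letI : CommGroup (MulAut F) :=
        { (inferInstance : Group (MulAut F)) with
          mul_comm := fun a b => (IsCyclic.mulAutMulEquiv F).injective (by rw [map_mul, map_mul, mul_comm]) }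
      exact Abelianization.commutator_subset_ker _
    refine Cores.centralizer_fittingSubgroup_le (Subgroup.mem_centralizer_iff.2 fun f hf => ?_)
    have h1 := congrArg (fun φ : MulAut F => ((φ ⟨f, hf⟩ : F) : D)) (MonoidHom.mem_ker.1 (hker hx))
    simp only [MulAut.conjNormal_apply, MulAut.one_apply] at h1
    exact (mul_inv_eq_iff_eq_mul.1 h1).symm

end Cfsg.Agent.OddTransitive
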